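import Mathlib

/-!
BG Appendix C (S1472), core assembly (helper68): the Frobenius trick (helper27, note 2682), i.e.
for an `E`-pair `ψ u + ψ v = 2` the triangle `T_3` is planar, hence canonical, hence
`(2 ψ(t⁻³ u t³) - 1)^n = 1`; iterating `p` times gives `a ∈ E → a⁻¹ ∈ E`.

All the inputs (basic facts of the configuration, Lemma S / rigidity, the relation `T_3`, and
"planar ⟹ canonical") are fields of the structure `Cfg`.
-/

set_option autoImplicit false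

namespace Cfsg.Agent.Lib.Helper68.AppC

section Field

variable {F : Type*} [Field F]

theorem natCast_pow_char (p : ℕ) [Fact p.Prime] [CharP F p] (k : ℕ) : ((k : ℕ) : F) ^ p = k := by
  induction k with
  | zero => simp [(Fact.out : p.Prime).ne_zero]
  | succ k ih => rw [Nat.cast_succ, add_pow_char, ih, one_pow]

theorem natCast_pow_sub_one (p : ℕ) [Fact p.Prime] [CharP F p] (k : ℕ) (hk : ¬ p ∣ k) :
    ((k : ℕ) : F) ^ (p - 1) = 1 := by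
  have h0 : ((k : ℕ) : F) ≠ 0 := by
    rw [Ne, CharP.cast_eq_zero_iff F p]; exact hk
  have h := natCast_pow_char (F := F) p k
  have hp0 : p ≠ 0 := (Fact.out : p.Prime).ne_zero
  exact mul_right_cancel₀ h0 (by rw [pow_sub_one_mul hp0, h, one_mul])

theorem eq_of_pow_eq (n m : ℕ) (hcop : Nat.Coprime n m) {x y : F} (hx : x ^ n = 1)
    (hy : y ^ n = 1) (hn : n ≠ 0) (h : x ^ m = y ^ m) : x = y := by
  have hy0 : y ≠ 0 := by
    rintro rfl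
    rw [zero_pow hn] at hy
    exact zero_ne_one hy
  have h1 : (x / y) ^ n = 1 := by rw [div_pow, hx, hy, div_one]
  have h2 : (x / y) ^ m = 1 := by rw [div_pow, h, div_self (pow_ne_zero _ hy0)]
  have := (pow_eq_one_iff_of_coprime hcop).mp ⟨h1, h2⟩
  exact (div_eq_one_iff_eq hy0).mp this

end Field

section Core

variable {G : Type*} [Group G] {F : Type*} [Field F]

/-- The twist: conjugation by `t^(-i)`. -/
def tw (t : G) (i : ℤ) (w : G) : G := t ^ (-i) * w * t ^ i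

theorem tw_pow (t : G) (i : ℤ) (w : G) (k : ℕ) : tw t i (w ^ k) = (tw t i w) ^ k := by
  unfold tw
  rw [show t ^ i = (t ^ (-i))⁻¹ by rw [zpow_neg, inv_inv], conj_pow]

theorem tw_inv (t : G) (i : ℤ) (w : G) : tw t i w⁻¹ = (tw t i w)⁻¹ := by
  unfold tw; group

/-- The configuration of BG Appendix C with all the facts used by the Frobenius step. -/
structure Cfg (p n : ℕ) (P U : Subgroup G) (f ψ : G → F) (s t : G) : Prop where
  hf : Set.BijOn f (P : Set G) Set.univ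
  hfadd : ∀ x ∈ P, ∀ z ∈ P, f (x * z) = f x + f z
  hUP : U ≤ Subgroup.normalizer (P : Set G)
  hψ : ∀ u ∈ U, ∀ x ∈ P, f (u * x * u⁻¹) = ψ u * f x
  hψmul : ∀ u ∈ U, ∀ v ∈ U, ψ (u * v) = ψ u * ψ v
  hsP : s ∈ P
  hfs : f s = 1
  h_zpow : ∀ x ∈ P, ∀ k : ℤ, f (x ^ k) = (k : F) * f x
  h_psi_one : ψ 1 = 1
  h_psi_pow : ∀ u ∈ U, ψ u ^ n = 1
  h_psi_surj : ∀ d : F, d ^ n = 1 → ∃ u ∈ U, ψ u = d
  h_decomp : ∀ d : F, d ≠ 0 → ∃ k : ℕ, ¬ p ∣ k ∧ ∃ u ∈ U, d = (k : F) * ψ u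
  h_t_norm : ∀ k : ℤ, ∀ u ∈ U, t ^ k * u * t ^ (-k) ∈ U
  h_t_pow : t ^ p = 1
  h_rigid : ∀ i j : ℤ, ¬ (p : ℤ) ∣ i - j → ∀ x ∈ P, ∀ x' ∈ P,
    t ^ i * x * t ^ (-i) = t ^ j * x' * t ^ (-j) → x = 1 ∧ x' = 1
  h_T3 : ∀ u v : G, v * s * v⁻¹ * s ^ (-2 : ℤ) = u * s⁻¹ * u⁻¹ →
    (u * (t ^ (2 : ℤ) * s ^ (3 : ℤ) * t ^ (-2 : ℤ)) * u⁻¹) *
        (v * (t ^ (2 : ℤ) * s⁻¹ * t ^ (-2 : ℤ)) * v⁻¹) *
        (v * (t * s ^ (2 : ℤ) * t⁻¹) * v⁻¹) * (t * s ^ (-3 : ℤ) * t⁻¹) =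
      (u * (t ^ (3 : ℤ) * s ^ (2 : ℤ) * t ^ (-3 : ℤ)) * u⁻¹) * (t ^ (3 : ℤ) * s⁻¹ * t ^ (-3 : ℤ))
  h_planar : ∀ k1 k2 k3 : ℤ, ¬ (p : ℤ) ∣ k3 →
    (t ^ (2 : ℤ) * s ^ k2 * t ^ (-2 : ℤ)) * (t ^ (1 : ℤ) * s ^ k1 * t ^ (-1 : ℤ)) =
      t ^ (3 : ℤ) * s ^ k3 * t ^ (-3 : ℤ) → (p : ℤ) ∣ k3 - 1

namespace Cfg

variable {p n : ℕ} {P U : Subgroup G} {f ψ : G → F} {s t : G} (c : Cfg p n P U f ψ s t)

include c

theorem f_one : f 1 = 0 := by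
  have h := c.hfadd 1 P.one_mem 1 P.one_mem
  rw [mul_one] at h
  linear_combination -h

/-- The element of `P` with `f`-value `d`. -/
noncomputable def e (d : F) : G := Classical.choose (c.hf.surjOn (Set.mem_univ d))

theorem e_mem (d : F) : c.e d ∈ P := (Classical.choose_spec (c.hf.surjOn (Set.mem_univ d))).1

theorem f_e (d : F) : f (c.e d) = d := (Classical.choose_spec (c.hf.surjOn (Set.mem_univ d))).2

theorem e_eq {x : G} (hx : x ∈ P) {d : F} (h : f x = d) : x = c.e d :=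
  c.hf.injOn hx (c.e_mem d) (by rw [h, c.f_e])

theorem e_add (d d' : F) : c.e (d + d') = c.e d * c.e d' :=
  (c.e_eq (P.mul_mem (c.e_mem d) (c.e_mem d'))
    (by rw [c.hfadd _ (c.e_mem d) _ (c.e_mem d'), c.f_e, c.f_e])).symm

theorem e_zero : c.e 0 = 1 := (c.e_eq P.one_mem c.f_one).symm

theorem e_conj {u : G} (hu : u ∈ U) (d : F) : u * c.e d * u⁻¹ = c.e (ψ u * d) :=
  c.e_eq ((Subgroup.mem_normalizer_iff.mp (c.hUP hu) _).mp (c.e_mem d))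
    (by rw [c.hψ u hu _ (c.e_mem d), c.f_e])

theorem e_int (k : ℤ) : c.e (k : F) = s ^ k :=
  (c.e_eq (P.zpow_mem c.hsP k) (by rw [c.h_zpow s c.hsP k, c.hfs, mul_one])).symm

/-- The level-`i` copy of the element with `f`-value `d`. -/
noncomputable def L (i : ℤ) (d : F) : G := t ^ i * c.e d * t ^ (-i)

theorem L_mul (i : ℤ) (d d' : F) : c.L i d * c.L i d' = c.L i (d + d') := by
  unfold L; rw [c.e_add]; group

theorem L_zero (i : ℤ) : c.L i 0 = 1 := by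
  unfold L; rw [c.e_zero]; group

theorem L_neg (i : ℤ) (d : F) : c.L i (-d) = (c.L i d)⁻¹ := by
  apply eq_inv_of_mul_eq_one_left
  rw [c.L_mul, neg_add_cancel, c.L_zero]

theorem L_int (i k : ℤ) : c.L i (k : F) = t ^ i * s ^ k * t ^ (-i) := by
  unfold L; rw [c.e_int]

theorem tw_mem (i : ℤ) {w : G} (hw : w ∈ U) : tw t i w ∈ U := by
  have := c.h_t_norm (-i) w hw
  rwa [neg_neg] at this

theorem L_conj (i : ℤ) {w : G} (hw : w ∈ U) (d : F) :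
    w * c.L i d * w⁻¹ = c.L i (ψ (tw t i w) * d) := by
  unfold L
  rw [← c.e_conj (c.tw_mem i hw) d]
  unfold tw
  group

theorem L_conj_int (i k : ℤ) {w : G} (hw : w ∈ U) :
    w * (t ^ i * s ^ k * t ^ (-i)) * w⁻¹ = c.L i (ψ (tw t i w) * (k : F)) := by
  rw [← c.L_int, c.L_conj i hw]

theorem L_rigid {i j : ℤ} (hij : ¬ (p : ℤ) ∣ i - j) {d d' : F} (h : c.L i d = c.L j d') :
    d = 0 ∧ d' = 0 := by
  obtain ⟨h1, h2⟩ := c.h_rigid i j hij _ (c.e_mem d) _ (c.e_mem d') h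
  constructor
  · rw [← c.f_e d, h1, c.f_one]
  · rw [← c.f_e d', h2, c.f_one]

theorem psi_inv {u : G} (hu : u ∈ U) : ψ u⁻¹ = (ψ u)⁻¹ := by
  apply eq_inv_of_mul_eq_one_left
  rw [← c.hψmul _ (U.inv_mem hu) _ hu, inv_mul_cancel, c.h_psi_one]

theorem psi_pow {u : G} (hu : u ∈ U) (k : ℕ) : ψ (u ^ k) = ψ u ^ k := by
  induction k with
  | zero => rw [pow_zero, pow_zero, c.h_psi_one]
  | succ k ih => rw [pow_succ, pow_succ, c.hψmul _ (U.pow_mem hu k) _ hu, ih]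

theorem psi_ne_zero (hn : n ≠ 0) {u : G} (hu : u ∈ U) : ψ u ≠ 0 := by
  intro h
  have := c.h_psi_pow u hu
  rw [h, zero_pow hn] at this
  exact zero_ne_one this

/-- The relation `T_3` in level form. -/
theorem T3L {u v : G} (hu : u ∈ U) (hv : v ∈ U) (huv : ψ u + ψ v = 2) :
    c.L 2 (3 * ψ (tw t 2 u) - ψ (tw t 2 v)) * c.L 1 (2 * ψ (tw t 1 v) - 3) =
      c.L 3 (2 * ψ (tw t 3 u) - 1) := by
  have hs1 : s = c.e 1 := c.e_eq c.hsP c.hfs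
  have hE : v * s * v⁻¹ * s ^ (-2 : ℤ) = u * s⁻¹ * u⁻¹ := by
    have h1 : v * s * v⁻¹ = c.e (ψ v) := by
      have := c.e_conj hv 1
      rw [← hs1, mul_one] at this
      exact this
    have h2 : s ^ (-2 : ℤ) = c.e (-2) := by
      have := c.e_int (-2)
      push_cast at this
      exact this.symm
    have h3 : u * s⁻¹ * u⁻¹ = c.e (-(ψ u)) := by
      have h4 : s⁻¹ = c.e (-1) := by
        have := c.e_int (-1)
        push_cast at this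
        rw [zpow_neg_one] at this
        exact this.symm
      rw [h4, c.e_conj hu]; congr 1; ring
    rw [h1, h2, h3, ← c.e_add]; congr 1; linear_combination huv
  have h := c.h_T3 u v hE
  have a1 := c.L_conj_int 2 3 hu
  have a2 := c.L_conj_int 2 (-1) hv
  have a3 := c.L_conj_int 1 2 hv
  have a4 := c.L_int 1 (-3)
  have a5 := c.L_conj_int 3 2 hu
  have a6 := c.L_int 3 (-1)
  simp only [zpow_one, zpow_neg_one] at a2 a3 a4 a6
  rw [a1, a2, a3, ← a4, a5, ← a6, c.L_mul, mul_assoc, c.L_mul, c.L_mul] at h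
  convert h using 2 <;> push_cast <;> ring

/-- The heart: two triangles related by Frobenius. -/
theorem step_core [Fact p.Prime] [CharP F p] (hn : n ≠ 0) (hcop : Nat.Coprime n (p - 1))
    (hp2 : p ≠ 2) {V1 V2 V3 : F} (R1 : c.L 2 V2 * c.L 1 V1 = c.L 3 V3)
    (R2 : c.L 2 (V2 ^ p) * c.L 1 (V1 ^ p) = c.L 3 (V3 ^ p)) (hV3 : V3 ≠ 0) : V3 ^ n = 1 := by
  have hpp : p.Prime := Fact.out
  have hp0 : p ≠ 0 := hpp.ne_zero
  have hnd1 : ¬ (p : ℤ) ∣ 1 := by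
    intro h
    have := Int.natCast_dvd_natCast.mp (by simpa using h : (p : ℤ) ∣ ((1 : ℕ) : ℤ))
    exact hpp.one_lt.ne' (Nat.dvd_one.mp this)
  have hnd2 : ¬ (p : ℤ) ∣ 2 := by
    intro h
    have := Int.natCast_dvd_natCast.mp (by simpa using h : (p : ℤ) ∣ ((2 : ℕ) : ℤ))
    rcases (Nat.dvd_prime Nat.prime_two).mp this with h1 | h1
    · exact hpp.one_lt.ne' h1
    · exact hp2 h1
  have hV2 : V2 ≠ 0 := by
    rintro rfl
    rw [c.L_zero, one_mul] at R1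
    exact hV3 (c.L_rigid (i := 1) (j := 3)
      (by intro h; exact hnd2 (by have := dvd_neg.mpr h; simpa using this)) R1).2
  have hV1 : V1 ≠ 0 := by
    rintro rfl
    rw [c.L_zero, mul_one] at R1
    exact hV3 (c.L_rigid (i := 2) (j := 3)
      (by intro h; exact hnd1 (by have := dvd_neg.mpr h; simpa using this)) R1).2
  obtain ⟨k3, hk3, g3, hg3, e3⟩ := c.h_decomp V3 hV3
  obtain ⟨k2, hk2, g2, hg2, e2⟩ := c.h_decomp V2 hV2
  obtain ⟨k1, hk1, g1, hg1, e1⟩ := c.h_decomp V1 hV1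
  obtain ⟨Ω, hΩ⟩ : ∃ Ω : G, Ω = t ^ (3 : ℤ) * g3 * t ^ (-(3 : ℤ)) := ⟨_, rfl⟩
  have hΩU : Ω ∈ U := by rw [hΩ]; exact c.h_t_norm 3 g3 hg3
  have htw3 : tw t 3 Ω = g3 := by unfold tw; rw [hΩ]; group
  have hW : Ω ^ (p - 1) ∈ U := U.pow_mem hΩU _
  -- conjugate `R1` by `W = Ω^(p-1)`
  have RW : c.L 2 (ψ (tw t 2 Ω) ^ (p - 1) * V2) * c.L 1 (ψ (tw t 1 Ω) ^ (p - 1) * V1) =
      c.L 3 (V3 ^ p) := by
    have h : Ω ^ (p - 1) * (c.L 2 V2 * c.L 1 V1) * (Ω ^ (p - 1))⁻¹ =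
        Ω ^ (p - 1) * c.L 3 V3 * (Ω ^ (p - 1))⁻¹ := by rw [R1]
    rw [show Ω ^ (p - 1) * (c.L 2 V2 * c.L 1 V1) * (Ω ^ (p - 1))⁻¹ =
        (Ω ^ (p - 1) * c.L 2 V2 * (Ω ^ (p - 1))⁻¹) *
          (Ω ^ (p - 1) * c.L 1 V1 * (Ω ^ (p - 1))⁻¹) by group] at h
    rw [c.L_conj 2 hW, c.L_conj 1 hW, c.L_conj 3 hW, tw_pow, tw_pow, tw_pow,
      c.psi_pow (c.tw_mem 2 hΩU), c.psi_pow (c.tw_mem 1 hΩU), c.psi_pow (c.tw_mem 3 hΩU),
      htw3] at h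
    have e : ψ g3 ^ (p - 1) * V3 = V3 ^ p := by
      rw [← pow_sub_one_mul hp0 V3]; congr 1
      rw [e3, mul_pow, natCast_pow_sub_one p k3 hk3, one_mul]
    rw [e] at h; exact h
  -- compare with `R2`
  have hcmp : c.L 2 (ψ (tw t 2 Ω) ^ (p - 1) * V2 - V2 ^ p) =
      c.L 1 (V1 ^ p - ψ (tw t 1 Ω) ^ (p - 1) * V1) := by
    have h := RW.trans R2.symm
    rw [sub_eq_add_neg, add_comm, ← c.L_mul, sub_eq_add_neg, ← c.L_mul, c.L_neg, c.L_neg,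
      inv_mul_eq_iff_eq_mul, ← mul_assoc, ← h, mul_assoc, mul_inv_cancel, mul_one]
  obtain ⟨hx, hy⟩ := c.L_rigid (i := 2) (j := 1) (by simpa using hnd1) hcmp
  have hx' : V2 ^ (p - 1) = ψ (tw t 2 Ω) ^ (p - 1) := by
    have : V2 ^ (p - 1) * V2 = ψ (tw t 2 Ω) ^ (p - 1) * V2 := by
      rw [pow_sub_one_mul hp0]; linear_combination -hx
    exact mul_right_cancel₀ hV2 this
  have hy' : V1 ^ (p - 1) = ψ (tw t 1 Ω) ^ (p - 1) := by
    have : V1 ^ (p - 1) * V1 = ψ (tw t 1 Ω) ^ (p - 1) * V1 := by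
      rw [pow_sub_one_mul hp0]; linear_combination hy
    exact mul_right_cancel₀ hV1 this
  have hg2' : ψ g2 = ψ (tw t 2 Ω) := by
    apply eq_of_pow_eq n (p - 1) hcop (c.h_psi_pow g2 hg2) (c.h_psi_pow _ (c.tw_mem 2 hΩU)) hn
    rw [← hx', e2, mul_pow, natCast_pow_sub_one p k2 hk2, one_mul]
  have hg1' : ψ g1 = ψ (tw t 1 Ω) := by
    apply eq_of_pow_eq n (p - 1) hcop (c.h_psi_pow g1 hg1) (c.h_psi_pow _ (c.tw_mem 1 hΩU)) hn
    rw [← hy', e1, mul_pow, natCast_pow_sub_one p k1 hk1, one_mul]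
  -- the planar relation
  have hL2 : c.L 2 V2 = Ω * (t ^ (2 : ℤ) * s ^ (k2 : ℤ) * t ^ (-(2 : ℤ))) * Ω⁻¹ := by
    rw [c.L_conj_int 2 k2 hΩU, e2, hg2']; congr 1; push_cast; ring
  have hL1 : c.L 1 V1 = Ω * (t ^ (1 : ℤ) * s ^ (k1 : ℤ) * t ^ (-(1 : ℤ))) * Ω⁻¹ := by
    rw [c.L_conj_int 1 k1 hΩU, e1, hg1']; congr 1; push_cast; ring
  have hL3 : c.L 3 V3 = Ω * (t ^ (3 : ℤ) * s ^ (k3 : ℤ) * t ^ (-(3 : ℤ))) * Ω⁻¹ := by
    rw [c.L_conj_int 3 k3 hΩU, htw3, e3]; congr 1; push_cast; ring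
  have hR : (t ^ (2 : ℤ) * s ^ (k2 : ℤ) * t ^ (-2 : ℤ)) *
      (t ^ (1 : ℤ) * s ^ (k1 : ℤ) * t ^ (-1 : ℤ)) = t ^ (3 : ℤ) * s ^ (k3 : ℤ) * t ^ (-3 : ℤ) := by
    rw [hL2, hL1, hL3] at R1
    calc (t ^ (2 : ℤ) * s ^ (k2 : ℤ) * t ^ (-2 : ℤ)) * (t ^ (1 : ℤ) * s ^ (k1 : ℤ) * t ^ (-1 : ℤ))
        = Ω⁻¹ * (Ω * (t ^ (2 : ℤ) * s ^ (k2 : ℤ) * t ^ (-(2 : ℤ))) * Ω⁻¹ *
            (Ω * (t ^ (1 : ℤ) * s ^ (k1 : ℤ) * t ^ (-(1 : ℤ))) * Ω⁻¹)) * Ω := by group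
      _ = Ω⁻¹ * (Ω * (t ^ (3 : ℤ) * s ^ (k3 : ℤ) * t ^ (-(3 : ℤ))) * Ω⁻¹) * Ω := by rw [R1]
      _ = t ^ (3 : ℤ) * s ^ (k3 : ℤ) * t ^ (-3 : ℤ) := by group
  have hd := c.h_planar (k1 : ℤ) (k2 : ℤ) (k3 : ℤ)
    (fun h => hk3 (Int.natCast_dvd_natCast.mp h)) hR
  have hk3F : ((k3 : ℕ) : F) = 1 := by
    have h0 : (((k3 : ℤ) - 1 : ℤ) : F) = 0 := (CharP.intCast_eq_zero_iff F p _).mpr hd
    push_cast at h0
    linear_combination h0
  rw [e3, hk3F, one_mul]; exact c.h_psi_pow g3 hg3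

/-- One step: `ψ u ∈ E` (with partner `ψ v = 2 - ψ u`) gives `(2 ψ(t⁻³ u t³) - 1)^n = 1`. -/
theorem step [Fact p.Prime] [CharP F p] (hn : n ≠ 0) (hcop : Nat.Coprime n (p - 1))
    (hp2 : p ≠ 2) {u v : G} (hu : u ∈ U) (hv : v ∈ U) (huv : ψ u + ψ v = 2) :
    (2 * ψ (tw t 3 u) - 1) ^ n = 1 := by
  have hpp : p.Prime := Fact.out
  have h2 : (2 : F) ^ p = 2 := by exact_mod_cast natCast_pow_char (F := F) p 2
  have h3 : (3 : F) ^ p = 3 := by exact_mod_cast natCast_pow_char (F := F) p 3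
  have hup : u ^ p ∈ U := U.pow_mem hu p
  have hvp : v ^ p ∈ U := U.pow_mem hv p
  have huvp : ψ (u ^ p) + ψ (v ^ p) = 2 := by
    rw [c.psi_pow hu, c.psi_pow hv, ← add_pow_char, huv, h2]
  refine c.step_core hn hcop hp2 (c.T3L hu hv huv) ?_ ?_
  · have h := c.T3L hup hvp huvp
    rw [tw_pow, tw_pow, tw_pow, tw_pow, c.psi_pow (c.tw_mem 2 hu), c.psi_pow (c.tw_mem 2 hv),
      c.psi_pow (c.tw_mem 1 hv), c.psi_pow (c.tw_mem 3 hu)] at h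
    rw [sub_pow_char, sub_pow_char, sub_pow_char, mul_pow, mul_pow, mul_pow, h2, h3, one_pow]
    exact h
  · intro h0
    have h1 : (2 : F) * ψ (tw t 3 u) = 1 := by linear_combination h0
    have h4 : (2 : F) ^ n = 1 := by
      have := congrArg (fun x => x ^ n) h1
      simp only [mul_pow, one_pow, c.h_psi_pow _ (c.tw_mem 3 hu), mul_one] at this
      exact this
    have h5 : (2 : F) ^ (p - 1) = 1 := by
      have hnd : ¬ p ∣ 2 := by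
        intro h
        rcases (Nat.dvd_prime Nat.prime_two).mp h with h' | h'
        · exact hpp.one_lt.ne' h'
        · exact hp2 h'
      exact_mod_cast natCast_pow_sub_one (F := F) p 2 hnd
    have h6 : (2 : F) = 1 := (pow_eq_one_iff_of_coprime hcop).mp ⟨h4, h5⟩
    have h7 : (1 : F) = 0 := by linear_combination h6
    exact one_ne_zero h7

/-- `E` is stable under `u ↦ t⁻³ u⁻¹ t³`. -/
theorem good_step [Fact p.Prime] [CharP F p] (hn : n ≠ 0) (hcop : Nat.Coprime n (p - 1))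
    (hp2 : p ≠ 2) {u : G} (hu : u ∈ U) (h : (2 - ψ u) ^ n = 1) :
    (2 - ψ (t ^ (-3 : ℤ) * u⁻¹ * t ^ (3 : ℤ))) ^ n = 1 := by
  obtain ⟨v, hv, hψv⟩ := c.h_psi_surj _ h
  have hst := c.step hn hcop hp2 hu hv (by rw [hψv]; ring)
  have e : t ^ (-3 : ℤ) * u⁻¹ * t ^ (3 : ℤ) = (tw t 3 u)⁻¹ := by unfold tw; group
  rw [e, c.psi_inv (c.tw_mem 3 hu)]
  have h0 := c.psi_ne_zero hn (c.tw_mem 3 hu)
  have h1 := c.h_psi_pow _ (c.tw_mem 3 hu)
  have h2 : 2 - (ψ (tw t 3 u))⁻¹ = (2 * ψ (tw t 3 u) - 1) * (ψ (tw t 3 u))⁻¹ := by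
    field_simp
  rw [h2, mul_pow, hst, inv_pow, h1, inv_one, mul_one]

theorem iter_formula (u : G) (j : ℕ) :
    (fun w : G => t ^ (-3 : ℤ) * w⁻¹ * t ^ (3 : ℤ))^[j] u =
      t ^ (-(3 * (j : ℤ))) * u ^ ((-1 : ℤ) ^ j) * t ^ (3 * (j : ℤ)) := by
  induction j with
  | zero => simp
  | succ j ih =>
    rw [Function.iterate_succ_apply', ih]
    have e1 : ((-1 : ℤ) ^ (j + 1)) = -((-1 : ℤ) ^ j) := by ring
    rw [e1]
    push_cast
    group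

/-- The conclusion of the group part of BG Appendix C: `E` is closed under inversion. -/
theorem inv_closed [Fact p.Prime] [CharP F p] (hn : n ≠ 0) (hcop : Nat.Coprime n (p - 1))
    (hp2 : p ≠ 2) : ∀ a : F, a ^ n = 1 → (2 - a) ^ n = 1 → (2 - a⁻¹) ^ n = 1 := by
  intro a ha h2a
  have hpp : p.Prime := Fact.out
  obtain ⟨u, hu, rfl⟩ := c.h_psi_surj a ha
  have key : ∀ j : ℕ, ((fun w : G => t ^ (-3 : ℤ) * w⁻¹ * t ^ (3 : ℤ))^[j] u) ∈ U ∧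
      (2 - ψ ((fun w : G => t ^ (-3 : ℤ) * w⁻¹ * t ^ (3 : ℤ))^[j] u)) ^ n = 1 := by
    intro j
    induction j with
    | zero => exact ⟨hu, h2a⟩
    | succ j ih =>
      rw [Function.iterate_succ_apply']
      refine ⟨?_, c.good_step hn hcop hp2 ih.1 ih.2⟩
      have := c.tw_mem 3 (U.inv_mem ih.1)
      unfold tw at this
      exact this
  have hfin := (key p).2
  have hiter : (fun w : G => t ^ (-3 : ℤ) * w⁻¹ * t ^ (3 : ℤ))^[p] u = u⁻¹ := by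
    rw [c.iter_formula]
    have hodd : Odd p := hpp.odd_of_ne_two hp2
    have e1 : t ^ (3 * (p : ℤ)) = 1 := by
      rw [mul_comm, zpow_mul, zpow_natCast, c.h_t_pow, one_zpow]
    have e2 : t ^ (-(3 * (p : ℤ))) = 1 := by rw [zpow_neg, e1, inv_one]
    rw [e1, e2, hodd.neg_one_pow, zpow_neg_one, one_mul, mul_one]
  rw [hiter, c.psi_inv hu] at hfin
  exact hfin

end Cfg

end Core

end Cfsg.Agent.Lib.Helper68.AppC
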