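import Mathlib

/-!
BG Appendix C (S1472), package PLANAR (helper68): a planar relation
`X_2^k2 X_1^k1 = X_3^k3` (`X_i = t^i s t^-i`, `t = y s y⁻¹`, `y ∈ Q` abelian `p'`-group
normalized by `s`, `s^p = 1`) is the canonical one, `(k3, k2, k1) = (1, 2, -1)` mod `p`, provided
"Lemma S" holds: `t^a s^b t^c ∈ H`, `p ∤ a` ⟹ `p ∣ b`.
-/

set_option autoImplicit false

namespace Cfsg.Agent.Lib.Helper68.AppC

open scoped IsMulCommutative

section Abstract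

variable {C : Type*} [CommGroup C]

/-- The norm of `x` under the automorphism `σ` (of order dividing `p`). -/
noncomputable def nrm (p : ℕ) (σ : MulAut C) (x : C) : C := ∏ j ∈ Finset.range p, (σ ^ j) x

theorem nrm_mul (p : ℕ) (σ : MulAut C) (x z : C) : nrm p σ (x * z) = nrm p σ x * nrm p σ z := by
  simp [nrm, Finset.prod_mul_distrib]

theorem nrm_inv (p : ℕ) (σ : MulAut C) (x : C) : nrm p σ x⁻¹ = (nrm p σ x)⁻¹ := by
  simp [nrm, Finset.prod_inv_distrib]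

theorem nrm_apply (p : ℕ) (σ : MulAut C) (hσ : σ ^ p = 1) (x : C) :
    nrm p σ (σ x) = nrm p σ x := by
  unfold nrm
  have h1 : ∏ j ∈ Finset.range p, (σ ^ j) (σ x) = ∏ j ∈ Finset.range p, (σ ^ (j + 1)) x := by
    refine Finset.prod_congr rfl (fun j _ => ?_)
    rw [pow_succ]; rfl
  rw [h1]
  have h2 := Finset.prod_range_succ (fun j => (σ ^ j) x) p
  have h3 := Finset.prod_range_succ' (fun j => (σ ^ j) x) p
  rw [h2] at h3
  simp only [hσ, pow_zero, MulAut.one_apply] at h3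
  exact (mul_right_cancel h3).symm

theorem nrm_zpow (p : ℕ) (σ : MulAut C) (hσ : σ ^ p = 1) (x : C) (i : ℤ) :
    nrm p σ ((σ ^ i) x) = nrm p σ x := by
  induction i using Int.induction_on with
  | zero => simp
  | succ i ih =>
    rw [add_comm, zpow_one_add, MulAut.mul_apply, nrm_apply p σ hσ]; exact ih
  | pred i ih =>
    have h1 : (σ ^ (-(i : ℤ))) x = σ ((σ ^ (-(i : ℤ) - 1)) x) := by
      rw [← MulAut.mul_apply, ← zpow_one_add]; congr 2; ring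
    rw [← nrm_apply p σ hσ, ← h1]; exact ih

theorem nrm_fixed (p : ℕ) (σ : MulAut C) (x : C) (hx : σ x = x) : nrm p σ x = x ^ p := by
  have h : ∀ j : ℕ, (σ ^ j) x = x := by
    intro j
    induction j with
    | zero => simp
    | succ j ih => rw [pow_succ, MulAut.mul_apply, hx, ih]
  unfold nrm
  rw [Finset.prod_congr rfl (fun j _ => h j), Finset.prod_const, Finset.card_range]

theorem comm_aux1 (a b c d e f g : C) (h : a⁻¹ * f * e⁻¹ * g = b⁻¹ * d) :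
    b * d⁻¹ * f * c⁻¹ = a * c⁻¹ * e * g⁻¹ := by
  apply Additive.ofMul.injective
  have h' := congrArg Additive.ofMul h
  simp only [ofMul_mul, ofMul_inv] at h' ⊢
  rw [← sub_eq_zero] at h' ⊢
  rw [← h']; abel

/-- The abstract core: if the `σ`-translates `η i = σ^i y` satisfy the relation coming from
`X_2^k2 X_1^k1 = X_3^k3`, then `η_0 η_k3⁻¹ η_(k2-1) η_(k3-1)⁻¹ = 1`. -/
theorem abs_planar [Finite C] (p : ℕ) (hC : (Nat.card C).Coprime p) (σ : MulAut C)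
    (hσ : σ ^ p = 1) (y : C) (k2 k3 : ℤ)
    (h : ((σ ^ (2 : ℤ)) y)⁻¹ * (σ ^ (2 + k2)) y * ((σ ^ (1 + k2)) y)⁻¹ * (σ ^ (1 + k3)) y =
      ((σ ^ (3 : ℤ)) y)⁻¹ * (σ ^ (3 + k3)) y) :
    y * ((σ ^ k3) y)⁻¹ * (σ ^ (k2 - 1)) y * ((σ ^ (k3 - 1)) y)⁻¹ = 1 := by
  set N' : C := y * ((σ ^ k3) y)⁻¹ * (σ ^ (k2 - 1)) y * ((σ ^ (k3 - 1)) y)⁻¹ with hN'
  -- apply `σ^(-2)` to the relation
  have h' := congrArg (σ ^ (-2 : ℤ)) h
  simp only [map_mul, map_inv, ← MulAut.mul_apply, ← zpow_add] at h'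
  have e1 : (-2 : ℤ) + 2 = 0 := by ring
  have e2 : (-2 : ℤ) + (2 + k2) = k2 := by ring
  have e3 : (-2 : ℤ) + (1 + k2) = k2 - 1 := by ring
  have e4 : (-2 : ℤ) + (1 + k3) = k3 - 1 := by ring
  have e5 : (-2 : ℤ) + 3 = 1 := by ring
  have e6 : (-2 : ℤ) + (3 + k3) = k3 + 1 := by ring
  rw [e1, e2, e3, e4, e5, e6, zpow_zero, zpow_one, MulAut.one_apply] at h'
  -- `N'` is fixed by `σ`
  have hfix : σ N' = N' := by
    rw [hN']
    simp only [map_mul, map_inv, ← MulAut.mul_apply]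
    have f1 : σ * σ ^ k3 = σ ^ (k3 + 1) := by
      rw [← zpow_one_add]; congr 1; ring
    have f2 : σ * σ ^ (k2 - 1) = σ ^ k2 := by
      rw [← zpow_one_add]; congr 1; ring
    have f3 : σ * σ ^ (k3 - 1) = σ ^ k3 := by
      rw [← zpow_one_add]; congr 1; ring
    rw [f1, f2, f3]
    exact comm_aux1 y (σ y) ((σ ^ k3) y) ((σ ^ (k3 + 1)) y) ((σ ^ (k2 - 1)) y) ((σ ^ k2) y)
      ((σ ^ (k3 - 1)) y) h'
  -- its norm is trivial
  have hn : nrm p σ N' = 1 := by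
    rw [hN', nrm_mul, nrm_mul, nrm_mul, nrm_inv, nrm_inv, nrm_zpow p σ hσ, nrm_zpow p σ hσ,
      nrm_zpow p σ hσ]
    simp
  rw [nrm_fixed p σ N' hfix] at hn
  have ho1 : orderOf N' ∣ p := orderOf_dvd_of_pow_eq_one hn
  have ho2 : orderOf N' ∣ Nat.card C := orderOf_dvd_natCard N'
  have ho3 : orderOf N' ∣ 1 := by
    have := Nat.dvd_gcd ho2 ho1
    rwa [hC] at this
  exact orderOf_eq_one_iff.mp (Nat.dvd_one.mp ho3)

end Abstract

section Concrete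

variable {G : Type*} [Group G]

/-- An element `s^m` of the `p'`-group `Q`, where `s` has order `p`, is trivial. -/
theorem zpow_eq_one_of_mem (p : ℕ) (Q : Subgroup G) [Finite Q] (hQp : (Nat.card Q).Coprime p)
    (s : G) (hsp : s ^ p = 1) (m : ℤ) (hm : s ^ m ∈ Q) : s ^ m = 1 := by
  have h1 : (s ^ m) ^ p = 1 := by
    rw [← zpow_natCast, ← zpow_mul, mul_comm, zpow_mul, zpow_natCast, hsp, one_zpow]
  have ho1 : orderOf (s ^ m) ∣ p := orderOf_dvd_of_pow_eq_one h1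
  have ho2 : orderOf (s ^ m) ∣ Nat.card Q := Subgroup.orderOf_dvd_natCard Q hm
  have ho3 : orderOf (s ^ m) ∣ 1 := by
    have := Nat.dvd_gcd ho2 ho1
    rwa [hQp] at this
  exact orderOf_eq_one_iff.mp (Nat.dvd_one.mp ho3)

theorem dvd_of_zpow_eq_one (p : ℕ) [Fact p.Prime] (s : G) (hsp : s ^ p = 1) (hs1 : s ≠ 1)
    (m : ℤ) (hm : s ^ m = 1) : (p : ℤ) ∣ m := by
  have ho : orderOf s = p := orderOf_eq_prime hsp hs1
  rw [← ho]
  exact orderOf_dvd_iff_zpow_eq_one.mpr hm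

theorem zpow_eq_one_of_dvd (p : ℕ) (s : G) (hsp : s ^ p = 1) (m : ℤ) (hm : (p : ℤ) ∣ m) :
    s ^ m = 1 := by
  obtain ⟨c, rfl⟩ := hm
  rw [zpow_mul, zpow_natCast, hsp, one_zpow]

theorem zpow_eq_zpow_of_dvd (p : ℕ) (s : G) (hsp : s ^ p = 1) (m n : ℤ)
    (hm : (p : ℤ) ∣ m - n) : s ^ m = s ^ n := by
  have h := zpow_eq_one_of_dvd p s hsp (m - n) hm
  rw [zpow_sub, mul_inv_eq_one] at h
  exact h

/-- PLANAR: a planar relation `X_2^k2 X_1^k1 = X_3^k3` is canonical. -/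
theorem planar_canonical (p : ℕ) [Fact p.Prime] (Q H : Subgroup G) [Finite Q]
    (hQ : IsMulCommutative Q) (hQp : (Nat.card Q).Coprime p) (s y : G) (hy : y ∈ Q)
    (hsQ : s ∈ Subgroup.normalizer (Q : Set G)) (hsp : s ^ p = 1) (hsH : s ∈ H)
    (hS : ∀ a b c : ℤ, (y * s * y⁻¹) ^ a * s ^ b * (y * s * y⁻¹) ^ c ∈ H → ¬ (p : ℤ) ∣ a →
      (p : ℤ) ∣ b)
    (k1 k2 k3 : ℤ) (hk3 : ¬ (p : ℤ) ∣ k3)
    (hR : ((y * s * y⁻¹) ^ (2 : ℤ) * s ^ k2 * (y * s * y⁻¹) ^ (-2 : ℤ)) *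
        ((y * s * y⁻¹) ^ (1 : ℤ) * s ^ k1 * (y * s * y⁻¹) ^ (-1 : ℤ)) =
      (y * s * y⁻¹) ^ (3 : ℤ) * s ^ k3 * (y * s * y⁻¹) ^ (-3 : ℤ)) :
    (p : ℤ) ∣ k3 - 1 ∧ (p : ℤ) ∣ k1 + 1 ∧ (p : ℤ) ∣ k2 - 2 := by
  have hpp : p.Prime := Fact.out
  have hp1 : ¬ (p : ℤ) ∣ 1 := by
    intro h
    have := Int.natCast_dvd_natCast.mp (by simpa using h : (p : ℤ) ∣ ((1 : ℕ) : ℤ))
    exact hpp.one_lt.ne' (Nat.dvd_one.mp this)
  -- `s ≠ 1`
  have hs1 : s ≠ 1 := by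
    intro h
    have := hS 1 1 0 (by rw [h]; simp) hp1
    exact hp1 this
  -- the automorphism `σ` of `Q` induced by `s`
  let sN : ↥(Subgroup.normalizer (Q : Set G)) := ⟨s, hsQ⟩
  let σ : MulAut ↥Q := Q.normalizerMonoidHom sN
  let yQ : ↥Q := ⟨y, hy⟩
  have hσ : σ ^ p = 1 := by
    show (Q.normalizerMonoidHom sN) ^ p = 1
    rw [← map_pow]
    have : sN ^ p = 1 := Subtype.ext (by simpa [sN] using hsp)
    rw [this, map_one]
  have hcoe : ∀ i : ℤ, (((σ ^ i) yQ : ↥Q) : G) = s ^ i * y * (s ^ i)⁻¹ := by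
    intro i
    show (((Q.normalizerMonoidHom sN) ^ i) yQ : G) = _
    rw [← map_zpow, Subgroup.normalizerMonoidHom_apply_apply_coe]
    simp [sN, yQ]
  -- normal forms of the two sides of the relation
  simp only [conj_zpow] at hR
  have hL : (y * s ^ (2 : ℤ) * y⁻¹ * s ^ k2 * (y * s ^ (-2 : ℤ) * y⁻¹)) *
      (y * s ^ (1 : ℤ) * y⁻¹ * s ^ k1 * (y * s ^ (-1 : ℤ) * y⁻¹)) =
      y * ((((σ ^ (2 : ℤ)) yQ)⁻¹ * (σ ^ (2 + k2)) yQ * ((σ ^ (1 + k2)) yQ)⁻¹ *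
        (σ ^ (1 + k2 + k1)) yQ : ↥Q) : G) * s ^ (k1 + k2) * y⁻¹ := by
    simp only [Subgroup.coe_mul, Subgroup.coe_inv, hcoe]
    group
  have hRr : y * s ^ (3 : ℤ) * y⁻¹ * s ^ k3 * (y * s ^ (-3 : ℤ) * y⁻¹) =
      y * ((((σ ^ (3 : ℤ)) yQ)⁻¹ * (σ ^ (3 + k3)) yQ : ↥Q) : G) * s ^ k3 * y⁻¹ := by
    simp only [Subgroup.coe_mul, Subgroup.coe_inv, hcoe]
    group
  rw [hL, hRr] at hR
  set A : ↥Q := ((σ ^ (2 : ℤ)) yQ)⁻¹ * (σ ^ (2 + k2)) yQ * ((σ ^ (1 + k2)) yQ)⁻¹ *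
        (σ ^ (1 + k2 + k1)) yQ with hA
  set B : ↥Q := ((σ ^ (3 : ℤ)) yQ)⁻¹ * (σ ^ (3 + k3)) yQ with hB
  have hR2 : (A : G) * s ^ (k1 + k2) = (B : G) * s ^ k3 := by
    have := congrArg (fun g => y⁻¹ * g * y) hR
    simpa [mul_assoc] using this
  -- (a) `p ∣ k1 + k2 - k3`
  have hmem : s ^ (k1 + k2 - k3) ∈ Q := by
    have : s ^ (k1 + k2 - k3) = ((A⁻¹ * B : ↥Q) : G) := by
      rw [zpow_sub, Subgroup.coe_mul, Subgroup.coe_inv, eq_comm, inv_mul_eq_iff_eq_mul,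
        ← mul_assoc, hR2, mul_assoc, mul_inv_cancel, mul_one]
    rw [this]; exact (A⁻¹ * B).2
  have h0 : s ^ (k1 + k2 - k3) = 1 := zpow_eq_one_of_mem p Q hQp s hsp _ hmem
  have hd0 : (p : ℤ) ∣ k1 + k2 - k3 := dvd_of_zpow_eq_one p s hsp hs1 _ h0
  have hse : s ^ (k1 + k2) = s ^ k3 := zpow_eq_zpow_of_dvd p s hsp _ _ hd0
  rw [hse] at hR2
  have hAB : A = B := Subtype.ext (mul_right_cancel hR2)
  -- periodicity of `σ`
  have hσz : ∀ m n : ℤ, (p : ℤ) ∣ m - n → σ ^ m = σ ^ n := by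
    intro m n hmn
    exact zpow_eq_zpow_of_dvd p σ hσ m n hmn
  have hper : σ ^ (1 + k2 + k1) = σ ^ (1 + k3) := by
    apply hσz
    have : 1 + k2 + k1 - (1 + k3) = k1 + k2 - k3 := by ring
    rw [this]; exact hd0
  rw [hA, hB, hper] at hAB
  -- the abstract core
  have hcard : (Nat.card ↥Q).Coprime p := hQp
  have hN := abs_planar p hcard σ hσ yQ k2 k3 hAB
  have hN' := congrArg (Subtype.val : ↥Q → G) hN
  simp only [Subgroup.coe_mul, Subgroup.coe_inv, hcoe, Subgroup.coe_one] at hN'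
  -- translate back
  have e1 : s ^ k1 = s ^ (k3 - k2) := by
    apply zpow_eq_zpow_of_dvd p s hsp
    have : k1 - (k3 - k2) = k1 + k2 - k3 := by ring
    rw [this]; exact hd0
  have e2 : s ^ (-1 - k1) = s ^ (k2 - 1 - k3) := by
    apply zpow_eq_zpow_of_dvd p s hsp
    have : -1 - k1 - (k2 - 1 - k3) = -(k1 + k2 - k3) := by ring
    rw [this]; exact (dvd_neg.mpr hd0)
  have hT : (y * s * y⁻¹) ^ k3 * s ^ (-1 - k1) * (y * s * y⁻¹) ^ k1 * s ^ (1 - k3) = 1 := by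
    rw [conj_zpow, conj_zpow, e1, e2, ← hN']
    simp only [yQ]
    group
  -- Lemma S, first application
  have hT2 : (y * s * y⁻¹) ^ k3 * s ^ (-1 - k1) * (y * s * y⁻¹) ^ k1 = s ^ (k3 - 1) := by
    have := mul_eq_one_iff_eq_inv.mp hT
    rw [this, ← zpow_neg]; congr 1; ring
  have hd1 : (p : ℤ) ∣ -1 - k1 := by
    apply hS k3 (-1 - k1) k1 _ hk3
    rw [hT2]; exact H.zpow_mem hsH _
  have hd1' : (p : ℤ) ∣ k1 + 1 := by
    have : k1 + 1 = -(-1 - k1) := by ring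
    rw [this]; exact dvd_neg.mpr hd1
  -- second application
  have htp : (y * s * y⁻¹) ^ p = 1 := by
    rw [conj_pow, hsp]; group
  have hT3 : (y * s * y⁻¹) ^ (k3 - 1) = s ^ (k3 - 1) := by
    rw [zpow_eq_one_of_dvd p s hsp _ hd1, mul_one, ← zpow_add] at hT2
    rw [← hT2]
    apply zpow_eq_zpow_of_dvd p _ htp
    have : k3 - 1 - (k3 + k1) = -(k1 + 1) := by ring
    rw [this]; exact dvd_neg.mpr hd1'
  have hd3 : (p : ℤ) ∣ k3 - 1 := by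
    by_contra hcon
    have h4 := hS (k3 - 1) (-(k3 - 1)) 0
      (by rw [hT3, zpow_zero, mul_one, zpow_neg, mul_inv_cancel]; exact H.one_mem) hcon
    exact hcon (dvd_neg.mp h4)
  refine ⟨hd3, hd1', ?_⟩
  have : k2 - 2 = (k1 + k2 - k3) - (k1 + 1) + (k3 - 1) := by ring
  rw [this]
  exact dvd_add (dvd_sub hd0 hd1') hd3

end Concrete

end Cfsg.Agent.Lib.Helper68.AppC
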